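import Cfsg.Agent.Lib.E6Fi22.Data

/-!
The tests run by the kernel on the certificate.
-/

set_option autoImplicit false
set_option linter.all false

namespace CfsgLib.E6Fi22

open CfsgLib.Chev

/-- the stored root columns are those of the tables -/
noncomputable def rootTest (q : ℕ) : Bool :=
  allNat 78 fun y => Nat.beq ((rcolTbl.getD q []).getD y 0)
    (colR (rootList.getD q (0, 0)).1 (rootList.getD q (0, 0)).2 y)

/-- a stored generator is the product of its word, on thirteen columns -/
noncomputable def genTest (k lo : ℕ) : Bool :=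
  allNat 13 fun i => CfsgLib.CosetEnum.strict (Nat.add lo i) fun y =>
    Nat.beq (appW rcolTbl (genWords.getD k []) (unit y)) ((gcolTbl.getD k []).getD y 0)

/-- two words in the generators act equally on thirteen columns -/
noncomputable def relTest (p : List ℕ × List ℕ) (lo : ℕ) : Bool :=
  allNat 13 fun i => CfsgLib.CosetEnum.strict (Nat.add lo i) fun y =>
    Nat.beq (appW gcolTbl p.1 (unit y)) (appW gcolTbl p.2 (unit y))

/-- the commutations and braids -/
def edgeList : List (ℕ × ℕ) := [(0, 1), (1, 2), (2, 3), (3, 4), (4, 5), (5, 6), (3, 7), (7, 8)]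

/-- the pairs of letters -/
def pairList : List (ℕ × ℕ) := (List.range 9).flatMap fun i => ((List.range 9).filter fun j => decide (i ≤ j)).map fun j => (i, j)

/-- the small relation of a pair -/
def pairRel (p : ℕ × ℕ) : List ℕ × List ℕ :=
  if p.1 = p.2 then ([p.1, p.1], []) else if p ∈ edgeList then ([p.1, p.2, p.1], [p.2, p.1, p.2])
  else ([p.1, p.2], [p.2, p.1])

def bigA : List ℕ := (List.replicate 9 [0, 1, 2, 3, 4, 5, 7]).flatten
def bigB : List ℕ := (List.replicate 9 [1, 2, 3, 4, 5, 6, 7]).flatten
def bigS : List ℕ := (List.replicate 10 [3, 2, 1, 3, 4, 5, 3, 7, 8]).flatten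

/-- the commutant certificate -/
noncomputable def diffTest (k : ℕ) : Bool :=
  allNat 78 fun y => Nat.beq ((dcolTbl.getD k []).getD y 0) (Nat.xor ((gcolTbl.getD k []).getD y 0) (unit y))

noncomputable def rankTest : Bool :=
  allNat 78 fun y => Nat.beq (appW dcolTbl rankWord (unit y)) (scal (coefs.getD y 0) v0)

noncomputable def treeTest : Bool :=
  allNat 78 fun k => cond (Nat.beq k 0) (Nat.beq (vtree.getD k 0) v0)
    (Nat.ble 1 (vpar.getD k (0, 0)).1 && Nat.blt (vpar.getD k (0, 0)).1 9 && Nat.blt (vpar.getD k (0, 0)).2 k &&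
      Nat.beq (vtree.getD k 0) (appM (gcolTbl.getD (vpar.getD k (0, 0)).1 []) (vtree.getD (vpar.getD k (0, 0)).2 0)))

noncomputable def invTest : Bool :=
  allNat 78 fun y => Nat.beq (appM vtree (vinv.getD y 0)) (unit y)

end CfsgLib.E6Fi22
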