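import Cfsg.Agent.Lib.E6Fi22.Check

set_option autoImplicit false
set_option linter.all false
set_option maxRecDepth 20000

/-! Kernel checks. -/

namespace CfsgLib.E6Fi22

open CfsgLib.Chev

theorem bigA_0 : relTest (bigA, []) 0 = true := by decide +kernel

theorem bigA_13 : relTest (bigA, []) 13 = true := by decide +kernel

theorem bigA_26 : relTest (bigA, []) 26 = true := by decide +kernel

theorem bigA_39 : relTest (bigA, []) 39 = true := by decide +kernel

theorem bigA_52 : relTest (bigA, []) 52 = true := by decide +kernel

theorem bigA_65 : relTest (bigA, []) 65 = true := by decide +kernel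

theorem bigA_ok : ∀ j < 6, relTest (bigA, []) (13 * j) = true := by
  intro j hj
  interval_cases j
  exacts [bigA_0, bigA_13, bigA_26, bigA_39, bigA_52, bigA_65]

end CfsgLib.E6Fi22
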