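import Cfsg.Agent.Lib.E6Fi22.Check

set_option autoImplicit false
set_option linter.all false
set_option maxRecDepth 20000

/-! Kernel checks. -/

namespace CfsgLib.E6Fi22

open CfsgLib.Chev

theorem bigS_0 : relTest (bigS, []) 0 = true := by decide +kernel

theorem bigS_13 : relTest (bigS, []) 13 = true := by decide +kernel

theorem bigS_26 : relTest (bigS, []) 26 = true := by decide +kernel

theorem bigS_39 : relTest (bigS, []) 39 = true := by decide +kernel

theorem bigS_52 : relTest (bigS, []) 52 = true := by decide +kernel

theorem bigS_65 : relTest (bigS, []) 65 = true := by decide +kernel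

theorem bigS_ok : ∀ j < 6, relTest (bigS, []) (13 * j) = true := by
  intro j hj
  interval_cases j
  exacts [bigS_0, bigS_13, bigS_26, bigS_39, bigS_52, bigS_65]

end CfsgLib.E6Fi22
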