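import Cfsg.Agent.Lib.E6Fi22.Check

set_option autoImplicit false
set_option linter.all false
set_option maxRecDepth 20000

/-! Kernel checks. -/

namespace CfsgLib.E6Fi22

open CfsgLib.Chev

theorem rank_ok : rankTest = true := by decide +kernel

theorem tree_ok : treeTest = true := by decide +kernel

theorem inv_ok : invTest = true := by decide +kernel

end CfsgLib.E6Fi22
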