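import Cfsg.Agent.Lib.E6Fi22.Check

set_option autoImplicit false
set_option linter.all false
set_option maxRecDepth 20000

/-! Kernel checks. -/

namespace CfsgLib.E6Fi22

open CfsgLib.Chev

theorem gen_0_0 : genTest 0 0 = true := by decide +kernel

theorem gen_0_13 : genTest 0 13 = true := by decide +kernel

theorem gen_0_26 : genTest 0 26 = true := by decide +kernel

theorem gen_0_39 : genTest 0 39 = true := by decide +kernel

theorem gen_0_52 : genTest 0 52 = true := by decide +kernel

theorem gen_0_65 : genTest 0 65 = true := by decide +kernel

theorem gen_1_0 : genTest 1 0 = true := by decide +kernel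

theorem gen_1_13 : genTest 1 13 = true := by decide +kernel

theorem gen_1_26 : genTest 1 26 = true := by decide +kernel

theorem gen_1_39 : genTest 1 39 = true := by decide +kernel

theorem gen_1_52 : genTest 1 52 = true := by decide +kernel

theorem gen_1_65 : genTest 1 65 = true := by decide +kernel

theorem gen_2_0 : genTest 2 0 = true := by decide +kernel

theorem gen_2_13 : genTest 2 13 = true := by decide +kernel

theorem gen_2_26 : genTest 2 26 = true := by decide +kernel

theorem gen_2_39 : genTest 2 39 = true := by decide +kernel

theorem gen_2_52 : genTest 2 52 = true := by decide +kernel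

theorem gen_2_65 : genTest 2 65 = true := by decide +kernel

theorem gen_0 : ∀ j < 6, genTest 0 (13 * j) = true := by
  intro j hj
  interval_cases j
  exacts [gen_0_0, gen_0_13, gen_0_26, gen_0_39, gen_0_52, gen_0_65]

theorem gen_1 : ∀ j < 6, genTest 1 (13 * j) = true := by
  intro j hj
  interval_cases j
  exacts [gen_1_0, gen_1_13, gen_1_26, gen_1_39, gen_1_52, gen_1_65]

theorem gen_2 : ∀ j < 6, genTest 2 (13 * j) = true := by
  intro j hj
  interval_cases j
  exacts [gen_2_0, gen_2_13, gen_2_26, gen_2_39, gen_2_52, gen_2_65]

end CfsgLib.E6Fi22
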