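import Cfsg.Agent.Lib.E6Fi22.Check

set_option autoImplicit false
set_option linter.all false
set_option maxRecDepth 20000

/-! Kernel checks. -/

namespace CfsgLib.E6Fi22

open CfsgLib.Chev

theorem gen_3_0 : genTest 3 0 = true := by decide +kernel

theorem gen_3_13 : genTest 3 13 = true := by decide +kernel

theorem gen_3_26 : genTest 3 26 = true := by decide +kernel

theorem gen_3_39 : genTest 3 39 = true := by decide +kernel

theorem gen_3_52 : genTest 3 52 = true := by decide +kernel

theorem gen_3_65 : genTest 3 65 = true := by decide +kernel

theorem gen_4_0 : genTest 4 0 = true := by decide +kernel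

theorem gen_4_13 : genTest 4 13 = true := by decide +kernel

theorem gen_4_26 : genTest 4 26 = true := by decide +kernel

theorem gen_4_39 : genTest 4 39 = true := by decide +kernel

theorem gen_4_52 : genTest 4 52 = true := by decide +kernel

theorem gen_4_65 : genTest 4 65 = true := by decide +kernel

theorem gen_5_0 : genTest 5 0 = true := by decide +kernel

theorem gen_5_13 : genTest 5 13 = true := by decide +kernel

theorem gen_5_26 : genTest 5 26 = true := by decide +kernel

theorem gen_5_39 : genTest 5 39 = true := by decide +kernel

theorem gen_5_52 : genTest 5 52 = true := by decide +kernel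

theorem gen_5_65 : genTest 5 65 = true := by decide +kernel

theorem gen_3 : ∀ j < 6, genTest 3 (13 * j) = true := by
  intro j hj
  interval_cases j
  exacts [gen_3_0, gen_3_13, gen_3_26, gen_3_39, gen_3_52, gen_3_65]

theorem gen_4 : ∀ j < 6, genTest 4 (13 * j) = true := by
  intro j hj
  interval_cases j
  exacts [gen_4_0, gen_4_13, gen_4_26, gen_4_39, gen_4_52, gen_4_65]

theorem gen_5 : ∀ j < 6, genTest 5 (13 * j) = true := by
  intro j hj
  interval_cases j
  exacts [gen_5_0, gen_5_13, gen_5_26, gen_5_39, gen_5_52, gen_5_65]

end CfsgLib.E6Fi22
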