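import Cfsg.Agent.Lib.E6Fi22.Check

set_option autoImplicit false
set_option linter.all false
set_option maxRecDepth 20000

/-! Kernel checks. -/

namespace CfsgLib.E6Fi22

open CfsgLib.Chev

theorem gen_6_0 : genTest 6 0 = true := by decide +kernel

theorem gen_6_13 : genTest 6 13 = true := by decide +kernel

theorem gen_6_26 : genTest 6 26 = true := by decide +kernel

theorem gen_6_39 : genTest 6 39 = true := by decide +kernel

theorem gen_6_52 : genTest 6 52 = true := by decide +kernel

theorem gen_6_65 : genTest 6 65 = true := by decide +kernel

theorem gen_7_0 : genTest 7 0 = true := by decide +kernel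

theorem gen_7_13 : genTest 7 13 = true := by decide +kernel

theorem gen_7_26 : genTest 7 26 = true := by decide +kernel

theorem gen_7_39 : genTest 7 39 = true := by decide +kernel

theorem gen_7_52 : genTest 7 52 = true := by decide +kernel

theorem gen_7_65 : genTest 7 65 = true := by decide +kernel

theorem gen_8_0 : genTest 8 0 = true := by decide +kernel

theorem gen_8_13 : genTest 8 13 = true := by decide +kernel

theorem gen_8_26 : genTest 8 26 = true := by decide +kernel

theorem gen_8_39 : genTest 8 39 = true := by decide +kernel

theorem gen_8_52 : genTest 8 52 = true := by decide +kernel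

theorem gen_8_65 : genTest 8 65 = true := by decide +kernel

theorem gen_6 : ∀ j < 6, genTest 6 (13 * j) = true := by
  intro j hj
  interval_cases j
  exacts [gen_6_0, gen_6_13, gen_6_26, gen_6_39, gen_6_52, gen_6_65]

theorem gen_7 : ∀ j < 6, genTest 7 (13 * j) = true := by
  intro j hj
  interval_cases j
  exacts [gen_7_0, gen_7_13, gen_7_26, gen_7_39, gen_7_52, gen_7_65]

theorem gen_8 : ∀ j < 6, genTest 8 (13 * j) = true := by
  intro j hj
  interval_cases j
  exacts [gen_8_0, gen_8_13, gen_8_26, gen_8_39, gen_8_52, gen_8_65]

end CfsgLib.E6Fi22
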