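import Cfsg.Agent.Lib.E6Fi22.Check

set_option autoImplicit false
set_option linter.all false
set_option maxRecDepth 20000

/-! Kernel checks. -/

namespace CfsgLib.E6Fi22

open CfsgLib.Chev

theorem pair_0 : (pairList.all fun p => relTest (pairRel p) 0) = true := by decide +kernel

theorem pair_13 : (pairList.all fun p => relTest (pairRel p) 13) = true := by decide +kernel

theorem pair_26 : (pairList.all fun p => relTest (pairRel p) 26) = true := by decide +kernel

theorem pair_39 : (pairList.all fun p => relTest (pairRel p) 39) = true := by decide +kernel

theorem pair_52 : (pairList.all fun p => relTest (pairRel p) 52) = true := by decide +kernel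

theorem pair_65 : (pairList.all fun p => relTest (pairRel p) 65) = true := by decide +kernel

theorem pair_ok : ∀ j < 6, (pairList.all fun p => relTest (pairRel p) (13 * j)) = true := by
  intro j hj
  interval_cases j
  exacts [pair_0, pair_13, pair_26, pair_39, pair_52, pair_65]

end CfsgLib.E6Fi22
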