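import Cfsg.Agent.Lib.E6Fold.Classes
import Cfsg.Prelude.Def_KGroupFacts

/-!
A subgroup of the twisted group of type `E6` over the field with four elements whose outer automorphism
group has order two and whose commutant is scalar gives three classes under the diagonal automorphisms.
-/

set_option autoImplicit false
set_option linter.unusedSectionVars false
set_option maxRecDepth 10000

namespace CfsgLib.E6Fi22

open Cfsg Cfsg.Lie CfsgLib.Chev CfsgLib.E6Fold
open scoped Matrix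

variable {K : Type*} [Field K] [CharP K 2]

theorem word_coe {L : List (ℕ × K)} (hlt : ∀ q ∈ L, q.1 < E.nroots) :
    (((L.map fun q => elX E K q.1 q.2).prod : GL E.Idx K) : Matrix E.Idx E.Idx K) = E.wordMat K L := by
  induction L with
  | nil => simp [ChevalleyDatum.wordMat]
  | cons q L ih =>
    rw [List.map_cons, List.prod_cons, Units.val_mul, ih (fun p hp => hlt p (List.mem_cons_of_mem _ hp)),
      coe_elX hcE K (hlt q List.mem_cons_self)]
    simp [ChevalleyDatum.wordMat]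

theorem chi_chiD (w : Kˣ) (i : ℕ) :
    (∀ r ∈ [e6p2, e6m2, e6p4, e6m4], chi (chiD w ^ i) (rv E TE r) = 1) ∧
    ∀ rs ∈ [(e6p1, e6p6), (e6m1, e6m6), (e6p3, e6p5), (e6m3, e6m5)],
      chi (chiD w ^ i) (rv E TE rs.2) = chi (chiD w ^ i) (rv E TE rs.1) ^ 2 := by
  obtain ⟨a0, a1, a2, a3, a4, a5, b0, b1, b2, b3, b4, b5⟩ := node_roots
  set χ := chiD w ^ i with hχ
  have c0 : χ (0 : Fin 6) = w ^ i := show w ^ i = w ^ i from rfl
  have c1 : χ (1 : Fin 6) = 1 := show (1 : Kˣ) ^ i = 1 from one_pow i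
  have c2 : χ (2 : Fin 6) = 1 := show (1 : Kˣ) ^ i = 1 from one_pow i
  have c3 : χ (3 : Fin 6) = 1 := show (1 : Kˣ) ^ i = 1 from one_pow i
  have c4 : χ (4 : Fin 6) = 1 := show (1 : Kˣ) ^ i = 1 from one_pow i
  have c5 : χ (5 : Fin 6) = (w ^ i) ^ 2 := show (w ^ 2) ^ i = (w ^ i) ^ 2 by rw [← pow_mul, ← pow_mul, mul_comm]
  obtain ⟨p0, m0⟩ := chi_rv χ (0 : Fin 6)
  obtain ⟨p1, m1⟩ := chi_rv χ (1 : Fin 6)
  obtain ⟨p2, m2⟩ := chi_rv χ (2 : Fin 6)
  obtain ⟨p3, m3⟩ := chi_rv χ (3 : Fin 6)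
  obtain ⟨p4, m4⟩ := chi_rv χ (4 : Fin 6)
  obtain ⟨p5, m5⟩ := chi_rv χ (5 : Fin 6)
  change chi χ (rv E TE (E.simple 0)) = _ at p0
  change chi χ (rv E TE (E.simple 1)) = _ at p1
  change chi χ (rv E TE (E.simple 2)) = _ at p2
  change chi χ (rv E TE (E.simple 3)) = _ at p3
  change chi χ (rv E TE (E.simple 4)) = _ at p4
  change chi χ (rv E TE (E.simple 5)) = _ at p5
  change chi χ (rv E TE (E.neg (E.simple 0))) = _ at m0
  change chi χ (rv E TE (E.neg (E.simple 1))) = _ at m1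
  change chi χ (rv E TE (E.neg (E.simple 2))) = _ at m2
  change chi χ (rv E TE (E.neg (E.simple 3))) = _ at m3
  change chi χ (rv E TE (E.neg (E.simple 4))) = _ at m4
  change chi χ (rv E TE (E.neg (E.simple 5))) = _ at m5
  rw [a0, c0] at p0; rw [a1, c1] at p1; rw [a2, c2] at p2; rw [a3, c3] at p3; rw [a4, c4] at p4; rw [a5, c5] at p5
  rw [a0, b0, c0] at m0; rw [a1, b1, c1, inv_one] at m1; rw [a2, b2, c2, inv_one] at m2
  rw [a3, b3, c3, inv_one] at m3; rw [a4, b4, c4, inv_one] at m4; rw [a5, b5, c5] at m5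
  constructor
  · intro r hr
    simp only [List.mem_cons, List.not_mem_nil, or_false, e6p2, e6m2, e6p4, e6m4] at hr
    rcases hr with rfl | rfl | rfl | rfl <;> assumption
  · intro rs hrs
    simp only [List.mem_cons, List.not_mem_nil, or_false, e6p1, e6p6, e6m1, e6m6, e6p3, e6p5, e6m3, e6m5] at hrs
    rcases hrs with rfl | rfl | rfl | rfl
    · rw [p0, p5]
    · rw [m0, m5, inv_pow]
    · rw [p2, p4, one_pow]
    · rw [m2, m4, one_pow]

theorem conj_twisted (w : Kˣ) (i : ℕ) {g : GL E.Idx K} (hg : g ∈ twistedE6 K 2) :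
    torus E TE K (chiD w ^ i) * g * (torus E TE K (chiD w ^ i))⁻¹ ∈ twistedE6 K 2 := by
  suffices h : twistedE6 K 2 ≤
      (twistedE6 K 2).comap (MulAut.conj (torus E TE K (chiD w ^ i))).toMonoidHom by exact h hg
  obtain ⟨hsing, hpair⟩ := chi_chiD w i
  refine (Subgroup.closure_le _).2 ?_
  rintro g ⟨L, hL, e⟩
  have hlt : ∀ q ∈ L, q.1 < E.nroots := by
    have h1 : ∀ r ∈ [e6p2, e6m2, e6p4, e6m4], r < E.nroots := by decide
    have h2 : ∀ rs ∈ [(e6p1, e6p6), (e6m1, e6m6), (e6p3, e6p5), (e6m3, e6m5)],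
        rs.1 < E.nroots ∧ rs.2 < E.nroots := by decide
    rcases hL with ⟨t, -, r, hr, rfl⟩ | ⟨t, rs, hrs, rfl⟩ <;> intro q hq <;>
      simp only [List.mem_cons, List.not_mem_nil, or_false] at hq
    · subst hq; exact h1 r hr
    · rcases hq with rfl | rfl
      · exact (h2 rs hrs).1
      · exact (h2 rs hrs).2
  have hg : g = (L.map fun q => elX E K q.1 q.2).prod := Units.ext (e.trans (word_coe hlt).symm)
  set χ := chiD w ^ i
  show MulAut.conj (torus E TE K χ) g ∈ twistedE6 K 2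
  have hconj : MulAut.conj (torus E TE K χ) g =
      ((L.map fun q => ((q.1, (chi χ (rv E TE q.1) : K) * q.2) : ℕ × K)).map fun q => elX E K q.1 q.2).prod := by
    rw [hg, map_list_prod, List.map_map, List.map_map]
    congr 1
    refine List.map_congr_left fun q hq => ?_
    simp [torus_conj_elX hcE χ (hlt q hq)]
  rw [hconj]
  refine word_in_twisted ?_ (fun q hq => ?_)
  · rcases hL with ⟨t, ht, r, hr, rfl⟩ | ⟨t, rs, hrs, rfl⟩
    · refine Or.inl ⟨t, ht, r, hr, ?_⟩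
      simp [hsing r hr]
    · refine Or.inr ⟨(chi χ (rv E TE rs.1) : K) * t, rs, hrs, ?_⟩
      simp [hpair rs hrs, mul_pow]
  · obtain ⟨p, hp, rfl⟩ := List.mem_map.1 hq
    exact hlt p hp

theorem diag_pos_eq_one [Finite K] {u : GL E.Idx K} (hu : u ∈ uGen E K (fun r => E.nroots / 2 ≤ r))
    {d : E.Idx → K} (hd : (u : Matrix E.Idx E.Idx K) = Matrix.diagonal d) : u = 1 := by
  haveI : Fact (Nat.Prime 2) := ⟨Nat.prime_two⟩
  obtain ⟨k, hk⟩ := Chev.isPGroup_pos hcE (F := K) 2 ⟨u, hu⟩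
  have h1 : ∀ x, d x ^ (2 ^ k) = 1 := by
    intro x
    have h2 := congrArg (fun g : GL E.Idx K => (g : Matrix E.Idx E.Idx K)) (congrArg Subtype.val hk)
    simp only [SubmonoidClass.coe_pow, Units.val_pow_eq_pow_val, hd, Matrix.diagonal_pow, OneMemClass.coe_one,
      Units.val_one] at h2
    simpa using congrFun (congrFun h2 x) x
  have h3 : ∀ x, d x = 1 := fun x => by
    refine iterateFrobenius_inj K 2 k ?_
    rw [iterateFrobenius_def, iterateFrobenius_def, h1 x, one_pow]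
  refine Units.ext ?_
  rw [hd, Units.val_one, show d = fun _ => (1 : K) from funext h3, Matrix.diagonal_one]

/-- three classes from one embedding -/
theorem three_classes [Finite K] (hcard : Nat.card Kˣ = 3) {A : Type*} [Group A] [Finite A]
    (hOut : Nat.card (Cfsg.Out A) = 2) (ψ : A →* GL E.Idx K) (hinj : Function.Injective ψ)
    (hle : ψ.range ≤ twistedE6 K 2)
    (hirr : ∀ z : GL E.Idx K, (∀ a, Commute z (ψ a)) → ∃ c : K, (z : Matrix E.Idx E.Idx K) = c • 1) :
    ∃ H : Fin 3 → Subgroup ↥(twistedE6 K 2),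
      (∀ i, Nonempty (↥(H i) ≃* A)) ∧
      (∀ i j, i ≠ j → ∀ g : ↥(twistedE6 K 2), (H i).map (MulAut.conj g).toMonoidHom ≠ H j) := by
  classical
  haveI : Fact (Nat.Prime 2) := ⟨Nat.prime_two⟩
  haveI : Finite (GL E.Idx K) := inferInstance
  have hcube : ∀ a : Kˣ, a ^ 3 = 1 := fun a => by rw [← hcard]; exact pow_card_eq_one'
  haveI : Fact (Nat.Prime 3) := ⟨Nat.prime_three⟩
  haveI : Nontrivial Kˣ := Finite.one_lt_card_iff_nontrivial.1 (by rw [hcard]; norm_num)
  obtain ⟨w, hw⟩ := exists_ne (1 : Kˣ)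
  have hord : orderOf w = 3 := orderOf_eq_prime (hcube w) hw
  let T : ℕ → Subgroup (GL E.Idx K) := fun i => ψ.range.map (MulAut.conj (torus E TE K (chiD w ^ i))).toMonoidHom
  have hT : ∀ i, T i ≤ twistedE6 K 2 := by
    rintro i _ ⟨x, hx, rfl⟩
    exact conj_twisted w i (hle hx)
  refine ⟨fun i => (T i.val).subgroupOf (twistedE6 K 2), fun i => ?_, fun i j hij g e => hij ?_⟩
  · exact ⟨((Subgroup.subgroupOfEquivOfLe (hT i.val)).trans
      (ψ.range.equivMapOfInjective _ (MulAut.conj (torus E TE K (chiD w ^ i.val))).injective).symm).trans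
        (MonoidHom.ofInjective hinj).symm⟩
  suffices h : w ^ i.val = w ^ j.val by
    exact Fin.ext (pow_injOn_Iio_orderOf (x := w) (by rw [Set.mem_Iio, hord]; exact i.2)
      (by rw [Set.mem_Iio, hord]; exact j.2) h)
  set di := torus E TE K (chiD w ^ i.val) with hdi
  set dj := torus E TE K (chiD w ^ j.val) with hdj
  set x := dj⁻¹ * (g : GL E.Idx K) * di with hx
  have hnorm : ∀ a, x * ψ a * x⁻¹ ∈ ψ.range := by
    intro a
    have hy : di * ψ a * di⁻¹ ∈ T i.val := ⟨ψ a, ⟨a, rfl⟩, rfl⟩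
    have h1 : g * ⟨_, hT _ hy⟩ * g⁻¹ ∈ (T j.val).subgroupOf (twistedE6 K 2) := by
      dsimp only at e
      rw [← e]; exact ⟨⟨_, hT _ hy⟩, hy, rfl⟩
    obtain ⟨r, hr, he⟩ := h1
    have he' : dj * r * dj⁻¹ = (g : GL E.Idx K) * (di * ψ a * di⁻¹) * (g : GL E.Idx K)⁻¹ := he
    have : x * ψ a * x⁻¹ = r := by
      calc x * ψ a * x⁻¹ = dj⁻¹ * ((g : GL E.Idx K) * (di * ψ a * di⁻¹) * (g : GL E.Idx K)⁻¹) * dj := by
            rw [hx]; group
        _ = r := by rw [← he']; group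
    rw [this]; exact hr
  choose θ hθ using hnorm
  let θh : A →* A := MonoidHom.mk' θ fun a b => hinj (by rw [hθ, map_mul, map_mul, hθ, hθ]; group)
  have hθinj : Function.Injective θh := fun a b (hab : θ a = θ b) => hinj (by
    have h1 := congrArg ψ hab
    rw [hθ, hθ] at h1
    exact (MulAut.conj x).injective h1)
  let θe : MulAut A := MulEquiv.ofBijective θh (Finite.injective_iff_bijective.1 hθinj)
  obtain ⟨c, hc⟩ : θe * θe ∈ Cfsg.Inn A := by
    have h1 : (QuotientGroup.mk θe : Cfsg.Out A) ^ 2 = 1 := by rw [← hOut]; exact pow_card_eq_one'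
    rw [pow_two, ← QuotientGroup.mk_mul] at h1
    exact (QuotientGroup.eq_one_iff _).1 h1
  have hx2 : ∀ a, Commute ((ψ c)⁻¹ * (x * x)) (ψ a) := by
    intro a
    have h1 : x * (x * ψ a * x⁻¹) * x⁻¹ = ψ c * ψ a * (ψ c)⁻¹ := by
      have h2 : θ (θ a) = c * a * c⁻¹ := (congrArg (fun f : MulAut A => f a) hc).symm
      have h3 := congrArg ψ h2
      rw [hθ, hθ, map_mul, map_mul, map_inv] at h3
      exact h3
    show _ * _ = _ * _
    calc (ψ c)⁻¹ * (x * x) * ψ a = (ψ c)⁻¹ * (x * (x * ψ a * x⁻¹) * x⁻¹) * (x * x) := by group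
      _ = ψ a * ((ψ c)⁻¹ * (x * x)) := by rw [h1]; group
  obtain ⟨l, hl⟩ := hirr _ hx2
  set y := (ψ c)⁻¹ * (x * x) with hy
  have hyc : ∀ z : GL E.Idx K, y * z = z * y := fun z => Units.ext (by
    rw [Units.val_mul y z, Units.val_mul z y, hl, Matrix.smul_mul, Matrix.one_mul, Matrix.mul_smul, Matrix.mul_one])
  set χ0 := (chiD w ^ j.val)⁻¹ * chiD w ^ i.val with hχ0
  set D0 := torus E TE K χ0 with hD0
  set g' := di⁻¹ * (g : GL E.Idx K) * di with hg'
  have hgG : (g : GL E.Idx K) ∈ E.group K := twisted_le_group g.2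
  have hg'G : g' ∈ E.group K := by
    have h1 := torus_conj_group (χ := (chiD w ^ i.val)⁻¹) hgG
    rwa [map_inv, inv_inv] at h1
  have hxD : x = D0 * g' := by rw [hx, hD0, hχ0, map_mul, map_inv, ← hdi, ← hdj, hg']; group
  set g'' := y⁻¹ * (D0 * D0) with hg''
  have hg''G : g'' ∈ E.group K := by
    have h1 : D0⁻¹ * g' * D0 ∈ E.group K := by
      have := torus_conj_group (χ := χ0⁻¹) hg'G
      rwa [map_inv, inv_inv] at this
    have hcG : ψ c ∈ E.group K := twisted_le_group (hle ⟨c, rfl⟩)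
    have e1 : g'' = ψ c * (D0⁻¹ * g' * D0 * g')⁻¹ := by
      have e0 : x * x = y * ψ c := by rw [hyc, hy]; group
      calc g'' = y⁻¹ * (x * x) * (D0⁻¹ * g' * D0 * g')⁻¹ := by rw [hg'', hxD]; group
        _ = _ := by rw [e0]; group
    rw [e1]
    exact mul_mem hcG (inv_mem (mul_mem h1 hg'G))
  have hU : g'' * u0 K * g''⁻¹ ∈ uGen E K (fun r => E.nroots / 2 ≤ r) := by
    have hstep : ∀ z ∈ uGen E K (fun r => E.nroots / 2 ≤ r),
        D0 * z * D0⁻¹ ∈ uGen E K (fun r => E.nroots / 2 ≤ r) := by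
      intro z hz
      induction hz using Subgroup.closure_induction with
      | mem z hz =>
          obtain ⟨r, t, hr, hp, rfl⟩ := hz
          rw [hD0, torus_conj_elX hcE χ0 hr]
          exact elX_mem_uGen hr hp _
      | one => simp
      | mul a b _ _ iha ihb => rw [← conj_mul]; exact mul_mem iha ihb
      | inv a _ ih => rw [← conj_inv]; exact inv_mem ih
    have h2 := hstep _ (hstep _ (u0_pos K))
    have e1 : g'' * u0 K * g''⁻¹ = y⁻¹ * (D0 * (D0 * u0 K * D0⁻¹) * D0⁻¹) * y := by rw [hg'']; group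
    rw [e1, mul_assoc, ← hyc, inv_mul_cancel_left]
    exact h2
  obtain ⟨u, hu, t, ht, hut⟩ := (mem_borel hcE).1 (mem_borel_of_regular hcE htPosE hcommE hg''G (u0_regular K) hU)
  obtain ⟨cc, hcc⟩ := (mem_diagonal hcE).1 ht
  have hyinv : ((y⁻¹ : GL E.Idx K) : Matrix E.Idx E.Idx K) = l⁻¹ • 1 := by
    have hl0 : l ≠ 0 := by
      intro h0
      have hy1 : ((y : Matrix E.Idx E.Idx K)) * ((y⁻¹ : GL E.Idx K) : Matrix E.Idx E.Idx K) = 1 := by
        rw [← Units.val_mul, mul_inv_cancel, Units.val_one]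
      rw [hl, h0, zero_smul, Matrix.zero_mul] at hy1
      have h1 := congrFun (congrFun hy1 (Sum.inl ⟨0, by decide⟩)) (Sum.inl ⟨0, by decide⟩)
      rw [Matrix.zero_apply, Matrix.one_apply_eq] at h1
      exact zero_ne_one h1
    refine Units.inv_eq_of_mul_eq_one_right ?_
    rw [hl, Matrix.smul_mul, Matrix.one_mul, smul_smul, mul_inv_cancel₀ hl0, one_smul]
  have hdiag : (g'' : Matrix E.Idx E.Idx K) = Matrix.diagonal fun x => l⁻¹ * (chi (χ0 * χ0) (wI E TE x) : K) := by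
    rw [hg'', hD0, ← map_mul, Units.val_mul, hyinv, coe_torus, Matrix.smul_mul, Matrix.one_mul, ← Matrix.diagonal_smul]
    rfl
  have hu1 : u = 1 := by
    refine diag_pos_eq_one hu (d := fun x => l⁻¹ * (chi (χ0 * χ0) (wI E TE x) : K) *
      (chi (hPar E K cc)⁻¹ (wI E TE x) : K)) ?_
    rw [show u = g'' * t⁻¹ by rw [hut]; group, ← hcc, ← map_inv, Units.val_mul, hdiag, coe_torus,
      Matrix.diagonal_mul_diagonal]
  rw [hu1, one_mul, ← hcc] at hut
  have hl1 : l⁻¹ = 1 := by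
    have h1 := congrFun (congrFun (congrArg (fun z : GL E.Idx K => (z : Matrix E.Idx E.Idx K)) hut)
      (Sum.inl ⟨0, by decide⟩)) (Sum.inl ⟨0, by decide⟩)
    simp only [hdiag, coe_torus, Matrix.diagonal_apply_eq, wI_inl, chi_zero, Units.val_one, mul_one] at h1
    exact h1
  have hy1 : y⁻¹ = 1 := Units.ext (by rw [hyinv, hl1, one_smul, Units.val_one])
  have hχ : χ0 * χ0 = hPar E K cc := by
    refine torus_injective hcE ?_
    rw [map_mul, ← hD0, ← hut, hg'', hy1, one_mul]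
  have h3 : inv3 (χ0 * χ0) = 1 := by rw [hχ, inv3_hPar hcube]
  have hinv : ∀ n : ℕ, inv3 (chiD w ^ n) = (w⁻¹) ^ n := by
    intro n
    induction n with
    | zero => rw [pow_zero, pow_zero, inv3_one]
    | succ n ih => rw [pow_succ, inv3_mul, ih, inv3_chiD, pow_succ]
  have hinv' : inv3 ((chiD w ^ j.val)⁻¹) = ((w⁻¹) ^ j.val)⁻¹ := by
    refine eq_inv_of_mul_eq_one_left ?_
    rw [← hinv, ← inv3_mul, inv_mul_cancel, inv3_one]
  rw [inv3_mul] at h3
  have hz : inv3 χ0 = 1 := by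
    have h4 := hcube (inv3 χ0)
    rw [pow_succ, pow_two, h3, one_mul] at h4
    exact h4
  rw [hχ0, inv3_mul, hinv, hinv', inv_mul_eq_one, inv_pow, inv_pow, inv_inj] at hz
  exact hz.symm

end CfsgLib.E6Fi22
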