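import Cfsg.Agent.Lib.E6Fi22.Main
import Cfsg.Agent.Lib.E6Fi22.Separate
import Cfsg.Agent.Lib.CosetEnum.Fi22.RigidMain
import Cfsg.Agent.Lib.CosetEnum.O7.Iso
import Cfsg.Agent.Lib.AutPOmega.Lifts
import Cfsg.Agent.S0816

/-!
Three classes of Fischer subgroups and of seven-dimensional orthogonal subgroups in the twisted group of type
`E6` over the field with four elements.
-/

set_option autoImplicit false
set_option linter.unusedSectionVars false

namespace CfsgLib.E6Fi22

open Cfsg Cfsg.Lie CfsgLib.CosetEnum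
open CfsgLib.E6Fold (E)

/-- the letters `b, ..., i` -/
noncomputable abbrev omegaSub : Subgroup Cfsg.Spor.Fi22 := Level Fi22.g [1, 2, 3, 4, 5, 6, 7, 8]

/-- the orthogonal group of dimension seven over three elements -/
abbrev O73 : Type := Cfsg.Omega (ZMod 3) (Cfsg.quadFormOdd 3 (ZMod 3))

theorem card_omegaSub : Nat.card omegaSub = 4585351680 := by
  haveI : Finite Cfsg.Spor.Fi22 := Fi22.finite
  have hidx : omegaSub.index = 14080 :=
    index_eq_of_bounds (by omega) Fi22.UTop.covers Fi22.UBound.bound0 (by rw [Fi22.card_group])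
  have h := omegaSub.index_mul_card
  rw [hidx, Fi22.card_group] at h
  omega

theorem center_O73 : Subgroup.center O73 = ⊥ := Subgroup.eq_bot_of_card_eq _ O7.card_center

theorem omegaSub_iso : Nonempty (omegaSub ≃* O73) := by
  obtain ⟨e⟩ := O7.iso card_omegaSub
  exact ⟨e.trans ((QuotientGroup.quotientMulEquivOfEq center_O73).trans QuotientGroup.quotientBot)⟩

theorem out_O73 : Nat.card (Cfsg.Out O73) = 2 := by
  haveI : Fact (Nat.Prime 3) := ⟨Nat.prime_three⟩
  haveI : Finite O73 := Nat.finite_of_card_ne_zero (by rw [O7.card_Om]; omega)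
  let e : Cfsg.POmega (ZMod 3) (Cfsg.quadFormOdd 3 (ZMod 3)) ≃* O73 :=
    (QuotientGroup.quotientMulEquivOfEq center_O73).trans QuotientGroup.quotientBot
  have h := Cfsg.Agent.S0816.result (F := ZMod 3) 3 1 le_rfl (by simp) (by decide) 3 le_rfl
  rw [Nat.card_congr (MulAut.congr e).toEquiv, Nat.card_congr e.toEquiv, mul_one] at h
  have hinj : Function.Injective (MulAut.conj : O73 →* MulAut O73) := by
    rw [injective_iff_map_eq_one]
    intro a ha
    refine (Subgroup.mem_bot).1 (center_O73 ▸ Subgroup.mem_center_iff.2 fun b => ?_)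
    have h1 := DFunLike.congr_fun ha b
    rw [MulAut.conj_apply, MulAut.one_apply, mul_inv_eq_iff_eq_mul] at h1
    exact h1.symm
  rw [Subgroup.card_eq_card_quotient_mul_card_subgroup (Cfsg.Inn O73),
    ← Nat.card_congr (MonoidHom.ofInjective hinj).toEquiv] at h
  exact Nat.eq_of_mul_eq_mul_right Nat.card_pos h

theorem card_out_congr {G : Type*} {G' : Type*} [Group G] [Group G'] (e : G ≃* G') :
    Nat.card (Cfsg.Out G) = Nat.card (Cfsg.Out G') := by
  refine Nat.card_congr (QuotientGroup.congr (Cfsg.Inn G) (Cfsg.Inn G') (MulAut.congr e) ?_).toEquiv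
  ext φ
  constructor
  · rintro ⟨_, ⟨g, rfl⟩, rfl⟩
    exact ⟨e g, MulEquiv.ext fun z => by simp [MulAut.congr]⟩
  · rintro ⟨g, rfl⟩
    exact ⟨_, ⟨e.symm g, rfl⟩, MulEquiv.ext fun z => by simp [MulAut.congr]⟩

variable {K : Type*} [Field K] [Fintype K]

theorem setup (hK : Fintype.card K = 4) :
    CharP K 2 ∧ Nat.card Kˣ = 3 ∧ ∃ ω : K, ω * ω = ω + 1 := by
  haveI : Fact (Nat.Prime 2) := ⟨Nat.prime_two⟩
  haveI : CharP K 2 := charP_of_card_eq_prime_pow (f := 2) hK
  classical
  have hu : Nat.card Kˣ = 3 := by rw [Nat.card_units, Nat.card_eq_fintype_card, hK]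
  haveI : Nontrivial Kˣ := Finite.one_lt_card_iff_nontrivial.1 (by rw [hu]; norm_num)
  obtain ⟨a, ha⟩ := exists_ne (1 : Kˣ)
  refine ⟨inferInstance, hu, (a : K), ?_⟩
  have h3 : (a : K) ^ 3 = 1 := by rw [← Units.val_pow_eq_pow_val, ← hu, pow_card_eq_one', Units.val_one]
  have h1 : (a : K) - 1 ≠ 0 := sub_ne_zero.2 fun h => ha (Units.ext (h.trans Units.val_one.symm))
  have h2 : (a : K) * a + a + 1 = 0 := by
    refine (mul_eq_zero.1 (?_ : ((a : K) - 1) * ((a : K) * a + a + 1) = 0)).resolve_left h1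
    linear_combination h3
  linear_combination h2 - ((a : K) + 1) * (CharTwo.two_eq_zero (R := K))

theorem fischer_classes (hK : Fintype.card K = 4) :
    ∃ H : Fin 3 → Subgroup ↥(twistedE6 K 2),
      (∀ i, Nonempty (↥(H i) ≃* Cfsg.Spor.Fi22)) ∧
      (∀ i j, i ≠ j → ∀ g : ↥(twistedE6 K 2), (H i).map (MulAut.conj g).toMonoidHom ≠ H j) := by
  obtain ⟨_, hu, ω, hω⟩ := setup hK
  obtain ⟨φ, hinj, hle, hφ⟩ := exists_embedding (K := K) hω
  haveI : Finite Cfsg.Spor.Fi22 := Fi22.finite
  refine three_classes hu Fi22.Rigid.card_out φ hinj hle fun z hz => scalar_commutant hω z fun k h1 h9 => ?_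
  have h := hz (Fi22.g k)
  interval_cases k <;>
    first
      | (rw [show Fi22.g 1 = PresentedGroup.of .b from rfl, hφ] at h; exact h)
      | (rw [show Fi22.g 2 = PresentedGroup.of .c from rfl, hφ] at h; exact h)
      | (rw [show Fi22.g 3 = PresentedGroup.of .d from rfl, hφ] at h; exact h)
      | (rw [show Fi22.g 4 = PresentedGroup.of .e from rfl, hφ] at h; exact h)
      | (rw [show Fi22.g 5 = PresentedGroup.of .f from rfl, hφ] at h; exact h)
      | (rw [show Fi22.g 6 = PresentedGroup.of .g from rfl, hφ] at h; exact h)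
      | (rw [show Fi22.g 7 = PresentedGroup.of .h from rfl, hφ] at h; exact h)
      | (rw [show Fi22.g 8 = PresentedGroup.of .i from rfl, hφ] at h; exact h)

theorem orth_classes (hK : Fintype.card K = 4) :
    ∃ H : Fin 3 → Subgroup ↥(twistedE6 K 2),
      (∀ i, Nonempty (↥(H i) ≃* O73)) ∧
      (∀ i j, i ≠ j → ∀ g : ↥(twistedE6 K 2), (H i).map (MulAut.conj g).toMonoidHom ≠ H j) := by
  obtain ⟨_, hu, ω, hω⟩ := setup hK
  obtain ⟨φ, hinj, hle, hφ⟩ := exists_embedding (K := K) hω
  obtain ⟨e⟩ := omegaSub_iso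
  haveI : Finite O73 := Nat.finite_of_card_ne_zero (by rw [O7.card_Om]; omega)
  refine three_classes hu out_O73 ((φ.comp omegaSub.subtype).comp e.symm.toMonoidHom)
    (hinj.comp (Subtype.val_injective.comp e.symm.injective)) (fun x ⟨a, ha⟩ => hle ⟨_, ha⟩)
    fun z hz => scalar_commutant hω z fun k h1 h9 => ?_
  have hmem : Fi22.g k ∈ omegaSub := mem_level _ (by simp only [List.mem_cons, List.not_mem_nil, or_false]; omega)
  have h := hz (e ⟨_, hmem⟩)
  simp only [MonoidHom.comp_apply, MulEquiv.coe_toMonoidHom, MulEquiv.symm_apply_apply, Subgroup.coe_subtype] at h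
  interval_cases k <;>
    first
      | (rw [show Fi22.g 1 = PresentedGroup.of .b from rfl, hφ] at h; exact h)
      | (rw [show Fi22.g 2 = PresentedGroup.of .c from rfl, hφ] at h; exact h)
      | (rw [show Fi22.g 3 = PresentedGroup.of .d from rfl, hφ] at h; exact h)
      | (rw [show Fi22.g 4 = PresentedGroup.of .e from rfl, hφ] at h; exact h)
      | (rw [show Fi22.g 5 = PresentedGroup.of .f from rfl, hφ] at h; exact h)
      | (rw [show Fi22.g 6 = PresentedGroup.of .g from rfl, hφ] at h; exact h)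
      | (rw [show Fi22.g 7 = PresentedGroup.of .h from rfl, hφ] at h; exact h)
      | (rw [show Fi22.g 8 = PresentedGroup.of .i from rfl, hφ] at h; exact h)

end CfsgLib.E6Fi22
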