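import Cfsg.Agent.Lib.E6Fold.Hom
import Cfsg.Agent.Lib.CosetEnum.Perm

/-!
Vectors of length 78 over the field with four elements packed into numbers, matrices as lists of packed
columns, and the columns of the root elements of `E6` read from the tables.
-/

set_option autoImplicit false
set_option linter.unusedSectionVars false

namespace CfsgLib.E6Fi22

open Cfsg.Lie CfsgLib.Chev
open CfsgLib.E6Fold (E TE hcE dimE)
open scoped Matrix

/-- multiplication by the generator of the field -/
noncomputable def w2 (c : ℕ) : ℕ :=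
  Nat.xor (Nat.mod (Nat.shiftRight c 128) 340282366920938463463374607431768211456)
    (Nat.shiftLeft (Nat.xor (Nat.mod c 340282366920938463463374607431768211456)
      (Nat.mod (Nat.shiftRight c 128) 340282366920938463463374607431768211456)) 128)

/-- the sum of the columns chosen by the bits of a number -/
noncomputable def sel : List ℕ → ℕ → ℕ :=
  fun m => List.rec (motive := fun _ => ℕ → ℕ) (fun _ => 0)
    (fun c _ ih a => Nat.xor (Nat.mul (Nat.land a 1) c) (ih (Nat.shiftRight a 1))) m

/-- a matrix applied to a vector -/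
noncomputable def appM (m : List ℕ) (v : ℕ) : ℕ :=
  Nat.xor (sel m v) (w2 (sel m (Nat.shiftRight v 128)))

/-- a product of matrices applied to a vector -/
noncomputable def appW (M : List (List ℕ)) : List ℕ → ℕ → ℕ :=
  fun l => List.rec (motive := fun _ => ℕ → ℕ) (fun v => v)
    (fun q _ ih v => appM (M.getD q []) (ih v)) l

/-- multiplication by a field element given by its code -/
noncomputable def scal (s v : ℕ) : ℕ :=
  cond (Nat.beq s 1) v (cond (Nat.beq s 2) (w2 v) (cond (Nat.beq s 3) (Nat.xor v (w2 v)) 0))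

/-- the square on codes -/
noncomputable def sqC (s : ℕ) : ℕ := cond (Nat.beq s 2) 3 (cond (Nat.beq s 3) 2 s)

/-- the parities of a sparse vector -/
noncomputable def mask (L : List (ℕ × ℤ)) : ℕ :=
  List.rec (motive := fun _ => ℕ) 0
    (fun p _ ih => Nat.xor (Nat.mul (Nat.mod (Int.natAbs p.2) 2) (Nat.shiftLeft 1 p.1)) ih) L

/-- a column of a root element, for a parameter of code one, two or three -/
noncomputable def colR (r s y : ℕ) : ℕ :=
  Nat.xor (Nat.shiftLeft 1 y) (Nat.xor (scal s (mask (decCode E TE (field (TE.t1.get r) y))))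
    (Nat.xor (scal (sqC s) (mask (decCode E TE (field (TE.t2.get r) y))))
      (mask (decCode E TE (field (TE.t3.get r) y)))))

/-- a unit vector -/
noncomputable def unit (y : ℕ) : ℕ := Nat.shiftLeft 1 y

variable {K : Type*} [Field K] [CharP K 2] {ω : K}

/-- a bit in the field -/
def tb (K : Type*) [Field K] (a j : ℕ) : K := if a.testBit j then 1 else 0

theorem tb_xor (a b j : ℕ) : tb K (a ^^^ b) j = tb K a j + tb K b j := by
  unfold tb
  rw [Nat.testBit_xor]
  cases a.testBit j <;> cases b.testBit j <;> simp [CharTwo.add_self_eq_zero]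

theorem tb_zero (j : ℕ) : tb K 0 j = 0 := by simp [tb]

theorem tb_shr (a n j : ℕ) : tb K (a >>> n) j = tb K a (n + j) := by simp [tb, Nat.testBit_shiftRight]

theorem tb_shl_ge (a n j : ℕ) : tb K (a <<< n) (n + j) = tb K a j := by
  simp [tb, Nat.testBit_shiftLeft]

theorem tb_shl_lt (a : ℕ) {n j : ℕ} (h : j < n) : tb K (a <<< n) j = 0 := by
  simp [tb, Nat.testBit_shiftLeft, show ¬ n ≤ j by omega]

theorem tb_unit (n j : ℕ) : tb K (1 <<< n) j = if j = n then 1 else 0 := by
  rw [tb, Nat.shiftLeft_eq, one_mul, Nat.testBit_two_pow]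
  by_cases h : j = n
  · simp [h]
  · simp [h, Ne.symm h]

theorem tb_bit_mul (v k c j : ℕ) : tb K (Nat.land (v >>> k) 1 * c) j = tb K v k * tb K c j := by
  have h : Nat.land (v >>> k) 1 = if v.testBit k then 1 else 0 := by
    show (v >>> k) &&& 1 = _
    rw [Nat.and_one_is_mod, Nat.shiftRight_eq_div_pow]
    have h2 := Nat.testBit_eq_decide_div_mod_eq (x := v) (i := k)
    rw [h2]
    rcases Nat.mod_two_eq_zero_or_one (v / 2 ^ k) with e | e <;> simp [e]
  rw [h]
  by_cases hb : v.testBit k <;> simp [hb, tb]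

/-- a coordinate of a packed vector -/
noncomputable def vn (ω : K) (v i : ℕ) : K := tb K v i + ω * tb K v (128 + i)

theorem vn_xor (v w i : ℕ) : vn ω (v ^^^ w) i = vn ω v i + vn ω w i := by
  simp only [vn, tb_xor]; ring

theorem vn_zero (i : ℕ) : vn ω 0 i = 0 := by simp [vn, tb_zero]

theorem pow128 : (340282366920938463463374607431768211456 : ℕ) = 2 ^ 128 := by norm_num

theorem vn_w2 (hω : ω * ω = ω + 1) (c : ℕ) {i : ℕ} (hi : i < 128) : vn ω (w2 c) i = ω * vn ω c i := by
  have e : w2 c = ((c >>> 128) % 340282366920938463463374607431768211456) ^^^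
      (((c % 340282366920938463463374607431768211456) ^^^
        ((c >>> 128) % 340282366920938463463374607431768211456)) <<< 128) := by
    rfl
  rw [pow128] at e
  have hlo : ∀ a : ℕ, tb K (a % 2 ^ 128) i = tb K a i := fun a => by
    rw [tb, tb, Nat.testBit_mod_two_pow, decide_eq_true hi, Bool.true_and]
  have hhigh : ∀ a : ℕ, tb K (a % 2 ^ 128) (128 + i) = 0 := fun a => by
    rw [tb, Nat.testBit_mod_two_pow, decide_eq_false (by omega), Bool.false_and, if_neg Bool.false_ne_true]
  rw [e]
  simp only [vn, tb_xor, hlo, hhigh, tb_shr, tb_shl_ge, tb_shl_lt _ hi, add_zero, zero_add]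
  linear_combination -(tb K c (128 + i)) * hω

theorem vn_smul_bit (v k c i : ℕ) : vn ω (Nat.land (v >>> k) 1 * c) i = tb K v k * vn ω c i := by
  simp only [vn, tb_bit_mul]; ring

theorem sel_cons (c : ℕ) (m : List ℕ) (a : ℕ) :
    sel (c :: m) a = (Nat.land (a >>> 0) 1 * c) ^^^ sel m (a >>> 1) := by
  rfl

theorem vn_sel : ∀ (m : List ℕ) (a i : ℕ),
    vn ω (sel m a) i = ∑ j ∈ Finset.range m.length, tb K a j * vn ω (m.getD j 0) i
  | [], a, i => by simp [sel, vn_zero]
  | c :: m, a, i => by
    rw [sel_cons, vn_xor, vn_smul_bit, vn_sel m, List.length_cons, Finset.sum_range_succ']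
    simp only [List.getD_cons_succ, List.getD_cons_zero, tb_shr]
    rw [add_comm]
    exact congrArg₂ _ (Finset.sum_congr rfl fun j _ => by rw [add_comm 1 j]) rfl

theorem vn_appM (hω : ω * ω = ω + 1) (m : List ℕ) (v : ℕ) {i : ℕ} (hi : i < 128) :
    vn ω (appM m v) i = ∑ j ∈ Finset.range m.length, vn ω v j * vn ω (m.getD j 0) i := by
  have e : appM m v = sel m v ^^^ w2 (sel m (v >>> 128)) := rfl
  rw [e, vn_xor, vn_w2 hω _ hi, vn_sel, vn_sel, Finset.mul_sum, ← Finset.sum_add_distrib]
  refine Finset.sum_congr rfl fun j _ => ?_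
  simp only [vn, tb_shr]; ring

/-- the field element of a code -/
noncomputable def code (ω : K) (s : ℕ) : K :=
  if s = 1 then 1 else if s = 2 then ω else if s = 3 then ω + 1 else 0

theorem vn_scal (hω : ω * ω = ω + 1) (s v : ℕ) {i : ℕ} (hi : i < 128) :
    vn ω (scal s v) i = code ω s * vn ω v i := by
  match s with
  | 0 =>
    show vn ω 0 i = _
    simp [code, vn_zero]
  | 1 =>
    show vn ω v i = _
    simp [code]
  | 2 =>
    show vn ω (w2 v) i = _
    simp [code, vn_w2 hω v hi]
  | 3 =>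
    show vn ω (v ^^^ w2 v) i = _
    rw [vn_xor, vn_w2 hω v hi]; simp [code]; ring
  | n + 4 =>
    show vn ω 0 i = _
    simp [code, vn_zero]

theorem code_sq (hω : ω * ω = ω + 1) {s : ℕ} (hs : s < 4) : code ω (sqC s) = code ω s ^ 2 := by
  have h2 : (2 : K) = 0 := CharTwo.two_eq_zero
  match s, hs with
  | 0, _ =>
    show code ω 0 = _
    simp [code]
  | 1, _ =>
    show code ω 1 = _
    simp [code]
  | 2, _ =>
    show code ω 3 = _
    simp [code, pow_two, hω]
  | 3, _ =>
    show code ω 2 = _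
    simp [code]; linear_combination -hω - (ω + 1) * h2

theorem code_cube (hω : ω * ω = ω + 1) {s : ℕ} (h0 : 0 < s) (hs : s < 4) : code ω s ^ 3 = 1 := by
  have h2 : (2 : K) = 0 := CharTwo.two_eq_zero
  match s, h0, hs with
  | 1, _, _ => simp [code]
  | 2, _, _ => simp [code]; linear_combination (ω + 1) * hω + ω * h2
  | 3, _, _ => simp [code]; linear_combination (ω + 4) * hω + (4 * ω + 2) * h2

theorem vn_mask (L : List (ℕ × ℤ)) (hL : ∀ p ∈ L, p.1 < 128) {i : ℕ} (hi : i < 128) :
    vn ω (mask L) i = ((coeffAt L i : ℤ) : K) := by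
  induction L with
  | nil => simp [mask, vn_zero, coeffAt_nil]
  | cons p L ih =>
    rw [List.forall_mem_cons] at hL
    have e : mask (p :: L) = (p.2.natAbs % 2 * (1 <<< p.1)) ^^^ mask L := rfl
    rw [e, vn_xor, ih hL.2, coeffAt_cons, Int.cast_add]
    congr 1
    have hpar : ((p.2 : ℤ) : K) = ((p.2.natAbs % 2 : ℕ) : K) := by
      have h2 : (2 : K) = 0 := CharTwo.two_eq_zero
      have hn : ((p.2.natAbs : ℕ) : K) = ((p.2.natAbs % 2 : ℕ) : K) := by
        conv_lhs => rw [← Nat.div_add_mod p.2.natAbs 2]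
        push_cast; rw [h2]; ring
      rcases Int.natAbs_eq p.2 with e | e
      · conv_lhs => rw [e]
        rw [Int.cast_natCast, hn]
      · conv_lhs => rw [e]
        rw [Int.cast_neg, Int.cast_natCast, CharTwo.neg_eq, hn]
    rcases Nat.mod_two_eq_zero_or_one p.2.natAbs with h | h
    · rw [h, zero_mul, vn_zero]
      split_ifs <;> simp [hpar, h]
    · rw [h, one_mul, vn, tb_unit, tb_unit, if_neg (show 128 + i ≠ p.1 by omega), mul_zero, add_zero]
      by_cases he : p.1 = i
      · simp [he, hpar, h]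
      · simp [he, Ne.symm he]

/-- the coordinates numbered -/
noncomputable def ei : E.Idx ≃ Fin 78 :=
  Equiv.ofBijective (fun x => ⟨cd E x, dimE ▸ cd_lt x⟩)
    ⟨fun _ _ h => cd_injective (Fin.ext_iff.1 h), fun k => by
      obtain ⟨x, hx⟩ := exists_cd (D := E) (a := k.val) (by rw [dimE]; exact k.2)
      exact ⟨x, Fin.ext hx⟩⟩

theorem cd_lt78 (x : E.Idx) : cd E x < 78 := dimE ▸ cd_lt x

/-- a packed vector -/
noncomputable def vec (ω : K) (v : ℕ) : E.Idx → K := fun x => vn ω v (cd E x)

/-- the matrix with given packed columns -/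
noncomputable def mat (ω : K) (m : List ℕ) : Matrix E.Idx E.Idx K :=
  Matrix.of fun x y => vn ω (m.getD (cd E y) 0) (cd E x)

theorem vec_appM (hω : ω * ω = ω + 1) {m : List ℕ} (hm : m.length = 78) (v : ℕ) :
    vec ω (appM m v) = mat ω m *ᵥ vec ω v := by
  funext x
  rw [vec, vn_appM hω m v (by have := cd_lt78 x; omega), hm, Finset.sum_range]
  rw [← Equiv.sum_comp ei]
  exact Finset.sum_congr rfl fun y _ => mul_comm _ _

theorem vec_unit (y : E.Idx) : vec ω (unit (cd E y)) = Pi.single y 1 := by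
  funext x
  have := cd_lt78 x
  have := cd_lt78 y
  show tb K (1 <<< cd E y) (cd E x) + ω * tb K (1 <<< cd E y) (128 + cd E x) = _
  rw [tb_unit, tb_unit, if_neg (show 128 + cd E x ≠ cd E y by omega), mul_zero, add_zero, Pi.single_apply]
  exact if_congr cd_injective.eq_iff rfl rfl

theorem vec_xor (v w : ℕ) : vec ω (v ^^^ w) = vec ω v + vec ω w := funext fun x => vn_xor v w _

theorem appW_spec (hω : ω * ω = ω + 1) (M : List (List ℕ)) :
    ∀ (l : List ℕ), (∀ q ∈ l, (M.getD q []).length = 78) → ∀ v,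
      vec ω (appW M l v) = (l.map fun q => mat ω (M.getD q [])).prod *ᵥ vec ω v
  | [], _, v => by simp [appW]
  | q :: l, h, v => by
    have e : appW M (q :: l) v = appM (M.getD q []) (appW M l v) := rfl
    rw [e, vec_appM hω (h q List.mem_cons_self), appW_spec hω M l (fun p hp => h p (List.mem_cons_of_mem _ hp)),
      Matrix.mulVec_mulVec]
    rfl

theorem matrix_ext_unit {A B : Matrix E.Idx E.Idx K} (h : ∀ y, A *ᵥ Pi.single y 1 = B *ᵥ Pi.single y 1) : A = B := by
  ext x y
  simpa [Matrix.mulVec_single] using congrFun (h y) x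

theorem mat_root (hω : ω * ω = ω + 1) {r s : ℕ} (hr : r < E.nroots) (h0 : 0 < s) (hs : s < 4) {m : List ℕ}
    (h : ∀ y < 78, m.getD y 0 = colR r s y) : mat ω m = (elX E K r (code ω s) : Matrix E.Idx E.Idx K) := by
  rw [coe_elX hcE K hr, xMat_eq hcE K hr]
  ext x y
  have hx : cd E x < 128 := by have := cd_lt78 x; omega
  have hm : ∀ k : ℕ, (k = 1 ∨ k = 2 ∨ k = 3) →
      vn ω (mask (decCode E TE (field ((tabK TE k).get r) (cd E y)))) (cd E x) = (tabMat E TE k r x y : K) := by
    intro k hk
    rw [vn_mask _ ?_ hx, tabMat_apply]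
    intro p hp
    have := good_field hcE hk hr (cd_lt y) p hp
    rw [dimE] at this; omega
  show vn ω (m.getD (cd E y) 0) (cd E x) = _
  rw [h _ (cd_lt78 y)]
  show vn ω ((1 <<< cd E y) ^^^ (scal s _ ^^^ (scal (sqC s) _ ^^^ _))) (cd E x) = _
  rw [vn_xor, vn_xor, vn_xor, vn_scal hω _ _ hx, vn_scal hω _ _ hx, ← tabK_one (T := TE), hm 1 (Or.inl rfl),
    ← tabK_two (T := TE), hm 2 (Or.inr (Or.inl rfl)), ← tabK_three (T := TE), hm 3 (Or.inr (Or.inr rfl)),
    code_sq hω hs]
  have hu : vn ω (1 <<< cd E y) (cd E x) = (1 : Matrix E.Idx E.Idx K) x y := by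
    have := congrFun (vec_unit (ω := ω) y) x
    rw [Pi.single_apply] at this
    rw [Matrix.one_apply]; exact this
  rw [hu]
  simp only [xTab, Matrix.add_apply, Matrix.smul_apply, Matrix.map_apply, smul_eq_mul, eq_intCast, code_cube hω h0 hs, one_mul]
  ring

end CfsgLib.E6Fi22
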