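import Cfsg.Agent.Lib.E6Fi22.ChkRoot
import Cfsg.Agent.Lib.E6Fi22.ChkCert
import Cfsg.Agent.Lib.E6Fi22.ChkGenA
import Cfsg.Agent.Lib.E6Fi22.ChkGenB
import Cfsg.Agent.Lib.E6Fi22.ChkGenC
import Cfsg.Agent.Lib.E6Fi22.ChkPair
import Cfsg.Agent.Lib.E6Fi22.ChkBigA
import Cfsg.Agent.Lib.E6Fi22.ChkBigB
import Cfsg.Agent.Lib.E6Fi22.ChkBigS
import Cfsg.Agent.Lib.E6Fold.Classes
import Cfsg.Agent.Lib.CosetEnum.Fi22.Simple

/-!
The presented Fischer group in the twisted group of type `E6` over the field with four elements, and the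
commutant of the images of the last eight letters.
-/

set_option autoImplicit false
set_option linter.unusedSectionVars false
set_option maxRecDepth 20000

namespace CfsgLib.E6Fi22

open Cfsg.Lie CfsgLib.Chev CfsgLib.CosetEnum
open CfsgLib.E6Fold (E TE hcE dimE word_in_twisted)
open scoped Matrix

variable {K : Type*} [Field K] [CharP K 2] {ω : K}

/-- a stored root element -/
noncomputable def rl (ω : K) (q : ℕ) : GL E.Idx K :=
  elX E K (rootList.getD q (0, 0)).1 (code ω (rootList.getD q (0, 0)).2)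

/-- the image of a letter -/
noncomputable def gl (ω : K) (k : ℕ) : GL E.Idx K := ((genWords.getD k []).map (rl ω)).prod

theorem coe_prod {α : Type*} (f : α → GL E.Idx K) (l : List α) :
    (((l.map f).prod : GL E.Idx K) : Matrix E.Idx E.Idx K) = (l.map fun a => (f a : Matrix E.Idx E.Idx K)).prod := by
  induction l with
  | nil => simp
  | cons a l ih => simp [ih]

theorem mat_col (m : List ℕ) (y : E.Idx) : mat ω m *ᵥ Pi.single y 1 = vec ω (m.getD (cd E y) 0) := by
  funext x
  simp [Matrix.mulVec_single, mat, vec]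

theorem root_bounds : ∀ q < 20, (rootList.getD q (0, 0)).1 < E.nroots ∧ 0 < (rootList.getD q (0, 0)).2 ∧
    (rootList.getD q (0, 0)).2 < 4 := by decide +kernel

theorem rcol_len : ∀ q < 20, (rcolTbl.getD q []).length = 78 := by decide +kernel

theorem gcol_len : ∀ q < 9, (gcolTbl.getD q []).length = 78 := by decide +kernel

theorem dcol_len : ∀ q < 9, (dcolTbl.getD q []).length = 78 := by decide +kernel

theorem word_bounds : ∀ k < 9, ∀ q ∈ genWords.getD k [], q < 20 := by decide +kernel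

theorem rl_coe (hω : ω * ω = ω + 1) {q : ℕ} (hq : q < 20) :
    (rl ω q : Matrix E.Idx E.Idx K) = mat ω (rcolTbl.getD q []) := by
  obtain ⟨h1, h2, h3⟩ := root_bounds q hq
  refine (mat_root hω h1 h2 h3 fun y hy => ?_).symm
  exact Nat.eq_of_beq_eq_true (allNat_iff.1 (allNat_iff.1 root_ok q hq) y hy)

theorem chunk {F : ℕ → Bool} (h : ∀ j < 6, (allNat 13 fun i => strict (Nat.add (13 * j) i) F) = true) {y : ℕ}
    (hy : y < 78) : F y = true := by
  have h1 := allNat_iff.1 (h (y / 13) (by omega)) (y % 13) (by omega)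
  rw [strict_eq] at h1
  have e : Nat.add (13 * (y / 13)) (y % 13) = y := Nat.div_add_mod y 13
  rwa [e] at h1

theorem gl_coe (hω : ω * ω = ω + 1) {k : ℕ} (hk : k < 9) :
    (gl ω k : Matrix E.Idx E.Idx K) = mat ω (gcolTbl.getD k []) := by
  refine matrix_ext_unit fun y => ?_
  have hg : ∀ j < 6, genTest k (13 * j) = true := by
    interval_cases k
    exacts [gen_0, gen_1, gen_2, gen_3, gen_4, gen_5, gen_6, gen_7, gen_8]
  rw [mat_col, ← Nat.eq_of_beq_eq_true (chunk hg (cd_lt78 y)),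
    appW_spec hω rcolTbl _ (fun q hq => rcol_len q (word_bounds k hk q hq)), vec_unit, gl, coe_prod,
    List.map_congr_left fun q hq => rl_coe hω (word_bounds k hk q hq)]

theorem rel_eq (hω : ω * ω = ω + 1) {l1 l2 : List ℕ} (h1 : ∀ q ∈ l1, q < 9) (h2 : ∀ q ∈ l2, q < 9)
    (h : ∀ j < 6, relTest (l1, l2) (13 * j) = true) : (l1.map (gl ω)).prod = (l2.map (gl ω)).prod := by
  refine Units.ext (matrix_ext_unit fun y => ?_)
  have e := congrArg (vec ω) (Nat.eq_of_beq_eq_true (chunk h (cd_lt78 y)))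
  rw [appW_spec hω gcolTbl _ (fun q hq => gcol_len q (h1 q hq)),
    appW_spec hω gcolTbl _ (fun q hq => gcol_len q (h2 q hq)), vec_unit] at e
  rw [coe_prod, coe_prod, List.map_congr_left (fun q hq => gl_coe hω (h1 q hq)),
    List.map_congr_left (fun q hq => gl_coe hω (h2 q hq))]
  exact e

theorem gl_out {k : ℕ} (hk : 9 ≤ k) : gl ω k = 1 := by
  rw [gl, List.getD_eq_default _ _ (by simpa [genWords] using hk)]
  rfl

theorem gl_sq (hω : ω * ω = ω + 1) (k : ℕ) : gl ω k * gl ω k = 1 := by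
  rcases lt_or_ge k 9 with hk | hk
  · obtain ⟨hm, hp⟩ := (by decide +kernel : ∀ i < 9, (i, i) ∈ pairList ∧ pairRel (i, i) = ([i, i], [])) k hk
    have h := fun n (hn : n < 6) => List.all_eq_true.1 (pair_ok n hn) _ hm
    simp only [hp] at h
    simpa using rel_eq hω (l1 := [k, k]) (l2 := []) (by simp [hk]) (by simp) h
  · rw [gl_out hk, one_mul]

/-- adjacency in the diagram -/
def adjY (i j : ℕ) : Bool := decide ((i, j) ∈ edgeList ∨ (j, i) ∈ edgeList)

set_option synthInstance.maxSize 2000 in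
theorem pair_cases : ∀ i < 9, ∀ j < 9, i ≠ j →
    (adjY i j = true → ((i, j) ∈ pairList ∧ pairRel (i, j) = ([i, j, i], [j, i, j])) ∨
      ((j, i) ∈ pairList ∧ pairRel (j, i) = ([j, i, j], [i, j, i]))) ∧
    (adjY i j = false → ((i, j) ∈ pairList ∧ pairRel (i, j) = ([i, j], [j, i])) ∨
      ((j, i) ∈ pairList ∧ pairRel (j, i) = ([j, i], [i, j]))) := by decide +kernel

theorem gl_braid (hω : ω * ω = ω + 1) {i j : ℕ} (hi : i < 9) (hj : j < 9) (h : adjY i j = true) :
    gl ω i * gl ω j * gl ω i = gl ω j * gl ω i * gl ω j := by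
  have hne : i ≠ j := by rintro rfl; exact absurd h ((by decide +kernel : ∀ i < 9, ¬ adjY i i = true) i hi)
  rcases (pair_cases i hi j hj hne).1 h with ⟨hm, hp⟩ | ⟨hm, hp⟩ <;>
    have hc := fun n (hn : n < 6) => List.all_eq_true.1 (pair_ok n hn) _ hm <;> simp only [hp] at hc
  · simpa [mul_assoc] using rel_eq hω (by simp [hi, hj]) (by simp [hi, hj]) hc
  · simpa [mul_assoc] using (rel_eq hω (by simp [hi, hj]) (by simp [hi, hj]) hc).symm

theorem gl_comm (hω : ω * ω = ω + 1) {i j : ℕ} (hi : i < 9) (hj : j < 9) (hne : i ≠ j) (h : adjY i j = false) :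
    gl ω i * gl ω j = gl ω j * gl ω i := by
  rcases (pair_cases i hi j hj hne).2 h with ⟨hm, hp⟩ | ⟨hm, hp⟩ <;>
    have hc := fun n (hn : n < 6) => List.all_eq_true.1 (pair_ok n hn) _ hm <;> simp only [hp] at hc
  · simpa using rel_eq hω (by simp [hi, hj]) (by simp [hi, hj]) hc
  · simpa using (rel_eq hω (by simp [hi, hj]) (by simp [hi, hj]) hc).symm

/-- letters with the relations of the presentation give a homomorphism -/
theorem hom_of_letters {M : Type*} [Group M] (u : ℕ → M) (hsq : ∀ x, u x * u x = 1) (hout : ∀ x, 9 ≤ x → u x = 1)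
    (hbr : ∀ i < 9, ∀ j < 9, adjY i j = true → u i * u j * u i = u j * u i * u j)
    (hcm : ∀ i < 9, ∀ j < 9, i ≠ j → adjY i j = false → u i * u j = u j * u i)
    (hA : (bigA.map u).prod = 1) (hB : (bigB.map u).prod = 1) (hS : (bigS.map u).prod = 1) :
    ∃ φ : Cfsg.Spor.Fi22 →* M, ∀ c, φ (PresentedGroup.of c) = u (Fi22.idx c) := by
  have hcox : ∀ i < 9, ∀ j < 9, (u i * u j) ^ (if i = j then 1 else if adjY i j then 3 else 2) = 1 := by
    intro i hi j hj
    split_ifs with h1 h2
    · rw [pow_one, h1, hsq]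
    · calc (u i * u j) ^ 3 = (u i * u j * u i) * (u j * u i * u j) := by
            simp only [pow_succ, pow_zero, one_mul, mul_assoc]
        _ = (u i * u j * u i) * (u i * u j * u i) := by rw [hbr i hi j hj h2]
        _ = u i * (u j * ((u i * u i) * u j)) * u i := by group
        _ = 1 := by rw [hsq, one_mul, hsq, mul_one, hsq]
    · rw [(show Commute (u i) (u j) from hcm i hi j hj h1 (by simpa using h2)).mul_pow, pow_two, pow_two, hsq, hsq,
        one_mul]
  let φ0 : FreeGroup Cfsg.Spor.Fi22.Gen →* M := FreeGroup.lift fun c => u (Fi22.idx c)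
  have hφ0 : ∀ i < 16, φ0 (Fi22.gF i) = u i := by
    intro i hi
    interval_cases i
    all_goals first
      | exact FreeGroup.lift_apply_of
      | (rw [hout _ (by omega)]; exact map_one φ0)
  have hrel : ∀ r ∈ Cfsg.Spor.coxRelators Cfsg.Spor.Fi22.edges ∪ {r | r ∈ Cfsg.Spor.Fi22.extra}, φ0 r = 1 := by
    suffices h : ∀ r ∈ Cfsg.Spor.coxRelators Cfsg.Spor.Fi22.edges ∪ {r | r ∈ Cfsg.Spor.Fi22.extra},
        QuotientGroup.mk' φ0.ker r = 1 by
      exact fun r hr => MonoidHom.mem_ker.1 ((QuotientGroup.eq_one_iff r).1 (h r hr))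
    have hk : ∀ x, QuotientGroup.kerLift φ0 (QuotientGroup.mk' φ0.ker x) = φ0 x := fun x => rfl
    refine Fi22.translation.relator_eq_one (QuotientGroup.mk' φ0.ker) (fun i hi => ?_) (fun l hl => ?_) <;>
      apply QuotientGroup.kerLift_injective φ0
    · rw [map_inv, hk, hk, hφ0 i hi, hφ0 _ (linv_lt _ _), Fi22.linv_eq i hi]
      exact (inv_eq_of_mul_eq_one_right (hsq i)).symm
    · rw [map_one, map_list_prod, List.map_map, Function.comp_def, List.map_congr_left (g := u) (fun i hi => (hk _).trans (hφ0 i ((Fi22.lsWords l hl).1 i hi)))]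
      rcases (by decide +kernel : ∀ l ∈ Fi22.ls, (∃ i, i < 9 ∧ ∃ j, j < 9 ∧
          l = (List.replicate (if i = j then 1 else if adjY i j then 3 else 2) [i, j]).flatten) ∨
          l = bigA ∨ l = bigB ∨ l = bigS) l hl with
        ⟨i, hi, j, hj, rfl⟩ | rfl | rfl | rfl
      · rw [List.map_flatten, List.map_replicate, List.prod_flatten, List.map_replicate, List.prod_replicate]
        simpa using hcox i hi j hj
      exacts [hA, hB, hS]
  exact ⟨PresentedGroup.toGroup hrel, fun c => PresentedGroup.toGroup.of hrel⟩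

theorem word_letters : ∀ k < 9, (∀ a ∈ genLetters.getD k [], a < letters.length) ∧
    (genWords.getD k []).map (fun q => rootList.getD q (0, 0)) =
      (genLetters.getD k []).flatMap fun a => letters.getD a [] := by decide +kernel

theorem letter_shape : ∀ L ∈ letters, (∃ r ∈ [e6p2, e6m2, e6p4, e6m4], L = [(r, 1)]) ∨
    ∃ rs ∈ [(e6p1, e6p6), (e6m1, e6m6), (e6p3, e6p5), (e6m3, e6m5)], ∃ t ∈ [1, 2, 3],
      L = [(rs.1, t), (rs.2, sqC t)] := by decide +kernel

theorem letter_bound : ∀ L ∈ letters, ∀ q ∈ L, q.1 < E.nroots := by decide +kernel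

theorem gl_mem (hω : ω * ω = ω + 1) (k : ℕ) : gl ω k ∈ twistedE6 K 2 := by
  rcases lt_or_ge k 9 with hk | hk
  swap
  · rw [gl_out hk]; exact one_mem _
  obtain ⟨hb, he⟩ := word_letters k hk
  have e1 : gl ω k = (((genWords.getD k []).map fun q => rootList.getD q (0, 0)).map
      fun p => elX E K p.1 (code ω p.2)).prod := by
    rw [gl, List.map_map]; rfl
  rw [e1, he, List.flatMap_def, List.map_flatten, List.prod_flatten, List.map_map, List.map_map]
  refine list_prod_mem fun x hx => ?_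
  obtain ⟨a, ha, rfl⟩ := List.mem_map.1 hx
  have hmem : letters.getD a [] ∈ letters := by
    rw [List.getD_eq_getElem _ _ (hb a ha)]; exact List.getElem_mem _
  have hword : ((letters.getD a []).map fun p => ((p.1, code ω p.2) : ℕ × K)) ∈ e6Words K 2 := by
    rcases letter_shape _ hmem with ⟨r, hr, e⟩ | ⟨rs, hrs, t, ht, e⟩ <;> rw [e]
    · exact Or.inl ⟨code ω 1, by simp [code], r, hr, rfl⟩
    · refine Or.inr ⟨code ω t, rs, hrs, ?_⟩
      simp only [List.map_cons, List.map_nil]
      rw [code_sq hω (by simp only [List.mem_cons, List.not_mem_nil, or_false] at ht; omega)]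
  have h := word_in_twisted hword (fun p hp => by
    obtain ⟨q, hq, rfl⟩ := List.mem_map.1 hp
    exact letter_bound _ hmem q hq)
  rw [List.map_map] at h
  exact h

theorem gl0_ne (hω : ω * ω = ω + 1) : gl ω 0 ≠ 1 := by
  intro h
  obtain ⟨y, hy, i, hi, hb⟩ := (by decide +kernel : ∃ y < 78, ∃ i < 78, y ≠ i ∧ ((gcolTbl.getD 0 []).getD y 0).testBit i = true ∧
    ((gcolTbl.getD 0 []).getD y 0).testBit (128 + i) = false)
  obtain ⟨yI, rfl⟩ := exists_cd (D := E) (a := y) (by rw [dimE]; exact hy)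
  obtain ⟨xI, rfl⟩ := exists_cd (D := E) (a := i) (by rw [dimE]; exact hi)
  have h2 := congrFun (congrFun (congrArg (fun g : GL E.Idx K => (g : Matrix E.Idx E.Idx K)) h) xI) yI
  simp only [gl_coe hω (show 0 < 9 by omega), Units.val_one] at h2
  rw [Matrix.one_apply_ne (fun e => hb.1 (by rw [e]))] at h2
  change vn ω ((gcolTbl.getD 0 []).getD (cd E yI) 0) (cd E xI) = 0 at h2
  rw [vn, tb, tb, hb.2.1, hb.2.2] at h2
  simp at h2

/-- the embedding -/
theorem exists_embedding (hω : ω * ω = ω + 1) :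
    ∃ φ : Cfsg.Spor.Fi22 →* GL E.Idx K, Function.Injective φ ∧ φ.range ≤ twistedE6 K 2 ∧
      ∀ c, φ (PresentedGroup.of c) = gl ω (Fi22.idx c) := by
  have hb : ∀ l, (∀ q ∈ l, q < 9) → (∀ j < 6, relTest (l, []) (13 * j) = true) → (l.map (gl ω)).prod = 1 := fun l hl h =>
    (rel_eq hω hl (by simp) h).trans rfl
  obtain ⟨φ, hφ⟩ := hom_of_letters (gl ω) (gl_sq hω) (fun _ => gl_out) (fun i hi j hj => gl_braid hω hi hj)
    (fun i hi j hj => gl_comm hω hi hj) (hb _ (by decide +kernel) bigA_ok) (hb _ (by decide +kernel) bigB_ok)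
    (hb _ (by decide +kernel) bigS_ok)
  refine ⟨φ, ?_, ?_, hφ⟩
  · haveI := Fi22.Simple.isSimple
    rw [← MonoidHom.ker_eq_bot_iff]
    refine (inferInstance : φ.ker.Normal).eq_bot_or_eq_top.resolve_right fun h => gl0_ne hω ?_
    have h1 : φ (PresentedGroup.of Cfsg.Spor.Fi22.Gen.a) = 1 := by
      rw [← MonoidHom.mem_ker, h]; exact Subgroup.mem_top _
    rw [hφ] at h1
    exact h1
  · rw [MonoidHom.range_eq_map, ← PresentedGroup.closure_range_of, MonoidHom.map_closure, Subgroup.closure_le]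
    rintro _ ⟨_, ⟨c, rfl⟩, rfl⟩
    rw [SetLike.mem_coe, hφ]
    exact gl_mem hω _

theorem scalar_commutant (hω : ω * ω = ω + 1) (z : GL E.Idx K) (hz : ∀ k, 1 ≤ k → k < 9 → Commute z (gl ω k)) :
    ∃ c : K, (z : Matrix E.Idx E.Idx K) = c • 1 := by
  set Z := (z : Matrix E.Idx E.Idx K) with hZ
  have hG : ∀ k, 1 ≤ k → k < 9 → Z * mat ω (gcolTbl.getD k []) = mat ω (gcolTbl.getD k []) * Z := by
    intro k h1 h9
    rw [← gl_coe hω h9, hZ, ← Units.val_mul, ← Units.val_mul, (hz k h1 h9).eq]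
  have hD : ∀ k < 9, mat ω (dcolTbl.getD k []) = mat ω (gcolTbl.getD k []) + 1 := by
    intro k hk
    refine matrix_ext_unit fun y => ?_
    rw [Matrix.add_mulVec, Matrix.one_mulVec, mat_col, mat_col,
      Nat.eq_of_beq_eq_true (allNat_iff.1 (allNat_iff.1 diff_ok k hk) _ (cd_lt78 y))]
    exact (vec_xor _ _).trans (by rw [vec_unit])
  set R := (rankWord.map fun q => mat ω (dcolTbl.getD q [])).prod with hR
  have hr : ∀ q ∈ rankWord, 1 ≤ q ∧ q < 9 := by decide +kernel
  have hRZ : Z * R = R * Z := by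
    refine Commute.list_prod_right _ _ fun m hm => ?_
    obtain ⟨q, hq, rfl⟩ := List.mem_map.1 hm
    obtain ⟨h1, h9⟩ := hr q hq
    rw [hD q h9]
    exact Commute.add_right (hG q h1 h9) (Commute.one_right _)
  set ρ : E.Idx → K := fun y => code ω (coefs.getD (cd E y) 0) with hρ
  set v := vec ω v0 with hv
  have hRc : ∀ y, R *ᵥ Pi.single y 1 = ρ y • v := by
    intro y
    have e := congrArg (vec ω) (Nat.eq_of_beq_eq_true (allNat_iff.1 rank_ok _ (cd_lt78 y)))
    rw [appW_spec hω dcolTbl _ (fun q hq => dcol_len q (hr q hq).2), vec_unit, ← hR] at e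
    rw [e]
    funext x
    exact vn_scal hω _ _ (by have := cd_lt78 x; omega)
  have hRm : R = Matrix.vecMulVec v ρ := by
    refine matrix_ext_unit fun y => ?_
    rw [hRc]
    funext x
    simp [Matrix.vecMulVec_apply, Matrix.mulVec_single, mul_comm]
  obtain ⟨y0, hy0⟩ := exists_cd (D := E) (a := 47) (by rw [dimE]; omega)
  have hρ0 : ρ y0 = 1 := by
    simp only [hρ, hy0]
    rw [(by decide +kernel : coefs.getD 47 0 = 1)]
    simp [code]
  set c := ρ ⬝ᵥ (Z *ᵥ Pi.single y0 1) with hc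
  have hv0 : Z *ᵥ v = c • v := by
    have h1 : Z *ᵥ v = R *ᵥ (Z *ᵥ Pi.single y0 1) := by
      rw [Matrix.mulVec_mulVec, ← hRZ, ← Matrix.mulVec_mulVec, hRc, hρ0, one_smul]
    rw [h1, hRm, hc]
    funext x
    simp only [Matrix.mulVec, dotProduct, Matrix.vecMulVec_apply, Pi.smul_apply, smul_eq_mul, Finset.sum_mul]
    exact Finset.sum_congr rfl fun _ _ => by ring
  have htree : ∀ k < 78, Z *ᵥ vec ω (vtree.getD k 0) = c • vec ω (vtree.getD k 0) := by
    intro k
    induction k using Nat.strong_induction_on with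
    | _ k ih =>
      intro hk
      have h := allNat_iff.1 tree_ok k hk
      cases hb : Nat.beq k 0 with
      | true =>
        rw [hb, cond_true] at h
        rw [Nat.eq_of_beq_eq_true h]
        exact hv0
      | false =>
        rw [hb, cond_false] at h
        simp only [Bool.and_eq_true, Nat.ble_eq, Nat.blt_eq] at h
        obtain ⟨⟨⟨h1, h9⟩, hlt⟩, he⟩ := h
        rw [Nat.eq_of_beq_eq_true he, vec_appM hω (gcol_len _ h9), Matrix.mulVec_mulVec, hG _ h1 h9,
          ← Matrix.mulVec_mulVec, ih _ hlt (by omega), Matrix.mulVec_smul]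
  have hT : Z * mat ω vtree = c • mat ω vtree := by
    refine matrix_ext_unit fun y => ?_
    rw [← Matrix.mulVec_mulVec, mat_col, htree _ (cd_lt78 y), Matrix.smul_mulVec, mat_col]
  have hI : mat ω vtree * mat ω vinv = (1 : Matrix E.Idx E.Idx K) := by
    refine matrix_ext_unit fun y => ?_
    rw [← Matrix.mulVec_mulVec, mat_col, ← vec_appM hω (by decide +kernel) , Matrix.one_mulVec,
      Nat.eq_of_beq_eq_true (allNat_iff.1 inv_ok _ (cd_lt78 y)), vec_unit]
  refine ⟨c, ?_⟩
  calc Z = Z * (mat ω vtree * mat ω vinv) := by rw [hI, mul_one]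
    _ = c • 1 := by rw [← mul_assoc, hT, Matrix.smul_mul, hI]

end CfsgLib.E6Fi22
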